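import Groth.Agent.TwC.K776.Split
import Groth.Agent.Sga3B.BcPts
import Groth.Prelude.Def_TwC
import Mathlib.GroupTheory.FreeGroup.Basic

/-!
# Étale group schemes with the valuative criterion over a curve: the isotrivial constant case

`isTwConstGrpOfType`: `C` a good curve, `P` an étale separated `C`-group with the existence part of the valuative
criterion, whose group of points at one geometric point is free abelian of rank `r`: `P` is an isotrivial twisted
constant group of type `ℤ^r`.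
-/

set_option autoImplicit false
universe u v
open CategoryTheory CategoryTheory.Limits MonoidalCategory CartesianMonoidalCategory MonObj AlgebraicGeometry
  TopologicalSpace

namespace K776.TwExt

open Groth.Agent Groth.Agent.Sga3B.BcPts TwC

variable {C D : Scheme.{u}}

/-- `(Over.map f).obj (𝟙_)` is `Over.mk f`. -/
noncomputable def unitIso (f : D ⟶ C) : (Over.map f).obj (𝟙_ (Over D)) ≅ Over.mk f :=
  Over.isoMk (Iso.refl _) (by
    change 𝟙 _ ≫ f = 𝟙 _ ≫ f
    rfl)

theorem bcEquiv_left_fst (f : D ⟶ C) {T : Over D} {P : Over C} (x : (Over.map f).obj T ⟶ P) :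
    (bcEquiv f T P x).left ≫ pullback.fst P.hom f = x.left := by
  simp [bcEquiv, Over.mapPullbackAdj]
  exact pullback.lift_fst (f := P.hom) (g := f) x.left T.hom (Over.w x)

/-- The section of the base change attached to a point over `D`. -/
noncomputable def secOf (f : D ⟶ C) {P : Over C} (a : Over.mk f ⟶ P) : 𝟙_ (Over D) ⟶ Red.bc f P :=
  bcEquiv f (𝟙_ (Over D)) P ((unitIso f).hom ≫ a)

theorem secOf_mul (f : D ⟶ C) {P : Over C} [GrpObj P] (a b : Over.mk f ⟶ P) :
    secOf f (a * b) = secOf f a * secOf f b := by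
  rw [secOf, MonObj.comp_mul, bcEquiv_mul]
  rfl

theorem secOf_left_fst (f : D ⟶ C) {P : Over C} (a : Over.mk f ⟶ P) :
    (secOf f a).left ≫ pullback.fst P.hom f = a.left := by
  refine (bcEquiv_left_fst f _).trans ?_
  change 𝟙 _ ≫ a.left = a.left
  rw [Category.id_comp]

theorem secOf_left_snd (f : D ⟶ C) {P : Over C} (a : Over.mk f ⟶ P) :
    (secOf f a).left ≫ pullback.snd P.hom f = 𝟙 D :=
  Over.w (secOf f a)

theorem exists_const (hD : Good D) (f : D ⟶ C) (P : Over C) [GrpObj P] [Etale P.hom] [IsSeparated P.hom]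
    (hex : ValuativeCriterion.Existence P.hom) (Ω : Type u) [Field Ω] [IsAlgClosed Ω]
    (ζ : Spec (CommRingCat.of Ω) ⟶ D) {M : Type v} [Small.{u} M] [Group M] (s : M → (Over.mk f ⟶ P))
    (hs : ∀ m n, s m * s n = s (m * n)) (hinj : ∀ m m', ζ ≫ (s m).left = ζ ≫ (s m').left → m = m')
    (hsurj : ∀ z : Spec (CommRingCat.of Ω) ⟶ P.left, z ≫ P.hom = ζ ≫ f → ∃ m, ζ ≫ (s m).left = z) :
    ∃ e : Red.bc f P ≅ TwC.const D M, TwC.IsConstGrp M (Red.bc f P) e := by
  let t : M → (D ⟶ pullback P.hom f) := fun m => (secOf f (s m)).left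
  have hex' : ValuativeCriterion.Existence (pullback.snd P.hom f) :=
    MorphismProperty.pullback_snd (P := ValuativeCriterion.Existence) P.hom f hex
  have hiso : IsIso (Sigma.desc t) := by
    refine isIso_sigmaDesc hD (pullback.snd P.hom f) hex' Ω ζ t (fun m => secOf_left_snd f (s m)) ?_ ?_
    · intro m m' h
      apply hinj
      have h1 := congrArg (· ≫ pullback.fst P.hom f) h
      simpa only [Category.assoc, t, secOf_left_fst] using h1
    · intro z hz
      obtain ⟨m, hm⟩ := hsurj (z ≫ pullback.fst P.hom f) (by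
        rw [Category.assoc, pullback.condition, reassoc_of% hz])
      refine ⟨m, ?_⟩
      apply pullback.hom_ext
      · rw [Category.assoc]
        exact (congrArg (ζ ≫ ·) (secOf_left_fst f (s m))).trans hm
      · rw [Category.assoc, hz]
        exact (congrArg (ζ ≫ ·) (secOf_left_snd f (s m))).trans (Category.comp_id _)
  let a : (∐ fun _ : M => D : Scheme.{u}) ≅ pullback P.hom f := @asIso _ _ _ _ (Sigma.desc t) hiso
  have ha : ∀ m, Sigma.ι (fun _ : M => D) m ≫ a.hom = t m := fun m => Sigma.ι_desc _ _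
  let e' : TwC.const D M ≅ Red.bc f P := Over.isoMk a (by
    refine Sigma.hom_ext _ _ fun m => ?_
    change Sigma.ι (fun _ : M => D) m ≫ a.hom ≫ pullback.snd P.hom f =
      Sigma.ι (fun _ : M => D) m ≫ Sigma.desc (fun _ : M => 𝟙 D)
    rw [reassoc_of% (ha m), Sigma.ι_desc]
    exact secOf_left_snd f (s m))
  have he : ∀ m, TwC.pt D M m ≫ e'.hom = secOf f (s m) := by
    intro m
    apply Over.OverMorphism.ext
    exact ha m
  refine ⟨e'.symm, fun m n => ?_⟩
  change (TwC.pt D M m ≫ e'.hom) * (TwC.pt D M n ≫ e'.hom) = TwC.pt D M (m * n) ≫ e'.hom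
  rw [he, he, he, ← secOf_mul, hs]

theorem section_ext {D P : Scheme.{u}} [ConnectedSpace D] (p : P ⟶ D) [Etale p] [IsSeparated p]
    {Z : Scheme.{u}} [Nonempty Z] (ζ : Z ⟶ D) (s s' : D ⟶ P) (hs : s ≫ p = 𝟙 D) (hs' : s' ≫ p = 𝟙 D)
    (h : ζ ≫ s = ζ ≫ s') : s = s' := by
  have ho : ∀ s : D ⟶ P, s ≫ p = 𝟙 D → IsOpenImmersion s := fun s hs => by
    have h1 : Etale (s ≫ p) := by rw [hs]; infer_instance
    have h2 : Etale s := Etale.of_comp s p
    have h3 : Mono (s ≫ p) := by rw [hs]; infer_instance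
    have h4 : Mono s := mono_of_mono s p
    exact IsOpenImmersion.of_flat_of_mono s
  have hcl : ∀ s : D ⟶ P, s ≫ p = 𝟙 D → IsClosed (Set.range s) := fun s hs => by
    have : IsClosedImmersion (s ≫ p) := by rw [hs]; infer_instance
    have : IsClosedImmersion s := IsClosedImmersion.of_comp s p
    exact s.isClosedEmbedding.isClosed_range
  have h1 := ho s hs
  have h2 := ho s' hs'
  have hcomp : ∀ s : D ⟶ P, s ≫ p = 𝟙 D → ∀ x : P, x ∈ Set.range s → Set.range s = connectedComponent x := by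
    intro s hs x hx
    have := ho s hs
    apply Set.Subset.antisymm
    · exact (isPreconnected_range s.continuous).subset_connectedComponent hx
    · exact IsClopen.connectedComponent_subset ⟨hcl s hs, s.isOpenEmbedding.isOpen_range⟩ hx
  let z : Z := Classical.arbitrary Z
  have hx : (ζ ≫ s) z ∈ Set.range s := ⟨ζ z, (Scheme.Hom.comp_apply ζ s z).symm⟩
  have hx' : (ζ ≫ s) z ∈ Set.range s' := ⟨ζ z, by rw [h]; exact (Scheme.Hom.comp_apply ζ s' z).symm⟩
  have hr : Set.range s' ⊆ Set.range s := by rw [hcomp s hs _ hx, hcomp s' hs' _ hx']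
  let t := IsOpenImmersion.lift s s' hr
  have ht : t ≫ s = s' := IsOpenImmersion.lift_fac _ _ _
  have ht' : t = 𝟙 D := by
    calc t = t ≫ 𝟙 D := (Category.comp_id _).symm
      _ = t ≫ s ≫ p := by rw [hs]
      _ = 𝟙 D := by rw [reassoc_of% ht, hs']
  rw [← ht, ht', Category.id_comp]

theorem point_ext [ConnectedSpace D] (f : D ⟶ C) (P : Over C) [Etale P.hom] [IsSeparated P.hom]
    {Z : Scheme.{u}} [Nonempty Z] (ζ : Z ⟶ D) (a b : Over.mk f ⟶ P) (h : ζ ≫ a.left = ζ ≫ b.left) : a = b := by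
  have h1 : (secOf f a).left = (secOf f b).left := by
    refine section_ext (pullback.snd P.hom f) ζ _ _ (secOf_left_snd f a) (secOf_left_snd f b) ?_
    apply pullback.hom_ext
    · rw [Category.assoc, Category.assoc]
      exact ((congrArg (ζ ≫ ·) (secOf_left_fst f a)).trans h).trans (congrArg (ζ ≫ ·) (secOf_left_fst f b)).symm
    · rw [Category.assoc, Category.assoc]
      exact (congrArg (ζ ≫ ·) (secOf_left_snd f a)).trans (congrArg (ζ ≫ ·) (secOf_left_snd f b)).symm
  apply Over.OverMorphism.ext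
  rw [← secOf_left_fst f a, ← secOf_left_fst f b, h1]

theorem mem_of_single {r : ℕ} (H : Subgroup (Multiplicative (Fin r → ℤ)))
    (h : ∀ i, Multiplicative.ofAdd (Pi.single i (1 : ℤ)) ∈ H) (m : Multiplicative (Fin r → ℤ)) : m ∈ H := by
  have : m = ∏ i, (Multiplicative.ofAdd (Pi.single i (1 : ℤ)) : Multiplicative (Fin r → ℤ)) ^ (m.toAdd i) := by
    apply Multiplicative.toAdd.injective
    rw [toAdd_prod]
    funext j
    simp [Finset.sum_apply, Pi.single_apply]
  rw [this]
  exact Subgroup.prod_mem _ fun i _ => Subgroup.zpow_mem _ (h i) _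

theorem isTwConstGrpOfType (hC : Good C) (P : Over C) [GrpObj P] [Etale P.hom] [IsSeparated P.hom]
    (hex : ValuativeCriterion.Existence P.hom) (Ω : Type u) [Field Ω] [IsAlgClosed Ω]
    (ξ : Spec (CommRingCat.of Ω) ⟶ C) {r : ℕ} (b : Multiplicative (Fin r → ℤ) ≃* (Over.mk ξ ⟶ P)) :
    TwC.IsTwConstGrpOfType TwC.Topology.finiteEtale (Multiplicative (Fin r → ℤ)) P := by
  obtain ⟨D, f, ζ, q, hf1, hf2, hD, hζ, hq, hqz⟩ := exists_cover hC P.hom hex Ω ξ r
    (fun i => (b (Multiplicative.ofAdd (Pi.single i 1))).left) (fun i => Over.w _)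
  have := hC.conn
  have := hD.conn
  have hfs : Surjective f := surjective_of_finite_etale f
  refine ⟨D, f, hf1, hf2, hfs, fun s' => ⟨⊤, trivial, isClosed_univ, ?_⟩⟩
  let D' : Scheme.{u} := ((⊤ : D.Opens) : Scheme.{u})
  let j : D' ⟶ D := (⊤ : D.Opens).ι
  have hj : IsIso j := inferInstanceAs (IsIso D.topIso.hom)
  have hj2 : D.topIso.inv ≫ j = 𝟙 D := D.topIso.inv_hom_id
  let ζ' : Spec (CommRingCat.of Ω) ⟶ D' := ζ ≫ D.topIso.inv
  have hζj : ζ' ≫ j = ζ := by rw [Category.assoc, hj2, Category.comp_id]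
  have hDc : ConnectedSpace D' := (D.topIso.hom.homeomorph.connectedSpace_iff).2 hD.conn
  have hD' : Good D' := hD.of_finite_etale j
  let f' : D' ⟶ C := j ≫ f
  have hζ' : ζ' ≫ f' = ξ := by
    change ζ' ≫ j ≫ f = ξ
    rw [reassoc_of% hζj, hζ]
  let k : Over.mk ξ ⟶ Over.mk f' := Over.homMk ζ' hζ'
  let ρ : (Over.mk f' ⟶ P) →* (Over.mk ξ ⟶ P) :=
    { toFun := fun a => k ≫ a
      map_one' := MonObj.comp_one _
      map_mul' := fun a a' => MonObj.comp_mul _ _ _ }
  have hρ : Function.Injective ρ := fun a a' h => point_ext f' P ζ' a a' (congrArg CommaMorphism.left h)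
  have hmem : ∀ m, b m ∈ ρ.range := by
    intro m
    refine mem_of_single (ρ.range.comap b.toMonoidHom) (fun i => ?_) m
    refine ⟨Over.homMk (j ≫ q i) (by
      change (j ≫ q i) ≫ P.hom = j ≫ f
      rw [Category.assoc, hq]), ?_⟩
    apply Over.OverMorphism.ext
    change ζ' ≫ j ≫ q i = _
    rw [reassoc_of% hζj]
    exact hqz i
  choose s hs using hmem
  refine exists_const hD' f' P hex Ω ζ' s (fun m n => ?_) (fun m m' h => ?_) (fun z hz => ?_)
  · apply hρ
    rw [map_mul, hs, hs, hs, map_mul]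
  · apply b.injective
    rw [← hs, ← hs]
    exact Over.OverMorphism.ext h
  · let z' : Over.mk ξ ⟶ P := Over.homMk z (hz.trans hζ')
    obtain ⟨m, hm⟩ := b.surjective z'
    refine ⟨m, ?_⟩
    have h1 : ρ (s m) = z' := (hs m).trans hm
    exact congrArg CommaMorphism.left h1

end K776.TwExt
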