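import Groth.Agent.CohqB.KerTrick
import Groth.Agent.Sga2.PicThick
import Groth.Agent.PicF.K247.SqZeroUniq
import Groth.Agent.Fga.RigGrp
import Groth.Agent.PerfB.ModExact

/-!
# The Picard group along a square zero thickening with vanishing cohomology

`pull_bijective`: `i : Z ⟶ Y` a closed immersion of square zero ideal with `H¹(O_Y) = H²(O_Y) = H¹(O_Z) = 0` and
`Γ(Y, O) ⟶ Γ(Z, O)` surjective: `Pic Y ≅ Pic Z`.
-/

set_option autoImplicit false
universe u
open CategoryTheory CategoryTheory.Limits AlgebraicGeometry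

namespace K776.PicDef

open Groth.Agent Groth.Agent.CohqB Groth.Agent.Grpsch.PicGrp

variable {Y Z : Scheme.{u}}

theorem epi_unitToPush (i : Z ⟶ Y) [IsClosedImmersion i] : Epi (ClSub.unitToPush i) := by
  apply PerfB.ModExact.epi_of_locally_surjective
  intro U s x hx
  obtain ⟨T, hT, hxT, hTU⟩ := exists_isAffineOpen_mem_and_subset (x := x) (U := U) hx
  obtain ⟨a, ha⟩ := i.app_surjective T hT
    (((Scheme.Modules.pushforward i).obj (Coh.structureModule Z)).presheaf.map (homOfLE hTU).op s)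
  exact ⟨T, hTU, hxT, a, ha⟩

theorem seq_shortExact (i : Z ⟶ Y) [IsClosedImmersion i] :
    (ShortComplex.mk (kernel.ι (ClSub.unitToPush i)) (ClSub.unitToPush i) (kernel.condition _)).ShortExact where
  exact := ShortComplex.exact_of_f_is_kernel _ (kernelIsKernel _)
  mono_f := inferInstanceAs (Mono (kernel.ι _))
  epi_g := epi_unitToPush i

theorem subsingleton_left_succ {S : ShortComplex Y.Modules} (hS : S.ShortExact) (n : ℕ)
    (h3 : Subsingleton (Coh.HH Y S.X₃ n)) (h2 : Subsingleton (Coh.HH Y S.X₂ (n + 1))) :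
    Subsingleton (Coh.HH Y S.X₁ (n + 1)) := by
  have key : ∀ x : Coh.HH Y S.X₁ (n + 1), x = 0 := by
    intro x
    obtain ⟨y, rfl⟩ := CohqB.HSeqMod.exact₁ hS n x (h2.elim _ _)
    rw [h3.elim y 0, map_zero]
  exact ⟨fun x y => (key x).trans (key y).symm⟩

theorem subsingleton_left_one {S : ShortComplex Y.Modules} (hS : S.ShortExact)
    (h2 : Subsingleton (Coh.HH Y S.X₂ 1)) (hs : Function.Surjective (S.g.app ⊤)) :
    Subsingleton (Coh.HH Y S.X₁ 1) := by
  have key : ∀ x : Coh.HH Y S.X₁ 1, x = 0 := by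
    intro x
    obtain ⟨y, rfl⟩ := CohqB.HSeqMod.exact₁ hS 0 x (h2.elim _ _)
    obtain ⟨z, hz⟩ := hs (KerTrick.h0 S.X₃ y)
    have hy : y = HSeqMod.hmap S.g 0 ((KerTrick.h0 S.X₂).symm z) := by
      apply (KerTrick.h0 S.X₃).injective
      rw [KerTrick.h0_hmap, AddEquiv.apply_symm_apply, hz]
    rw [hy, HSeqMod.δ_hmap]
  exact ⟨fun x y => (key x).trans (key y).symm⟩

theorem pull_bijective (i : Z ⟶ Y) [IsClosedImmersion i] (hI : i.ker ^ 2 = ⊥)
    (h1 : Subsingleton (Coh.HH Y (Coh.structureModule Y) 1)) (h2 : Subsingleton (Coh.HH Y (Coh.structureModule Y) 2))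
    (h3 : Subsingleton (Coh.HH Z (Coh.structureModule Z) 1)) (hs : Function.Surjective i.appTop) :
    Function.Bijective (pull i) := by
  have hS := seq_shortExact i
  have hK2 : Subsingleton (Coh.HH Y (kernel (ClSub.unitToPush i)) 2) :=
    subsingleton_left_succ hS 1 (Sga2.PicThick.subsingleton_HH_pushforward i _ 1 h3) h2
  have hK1 : Subsingleton (Coh.HH Y (kernel (ClSub.unitToPush i)) 1) :=
    subsingleton_left_one hS h1 hs
  have hK1' : Subsingleton (Coh.HH Y (ClSub.idealMod i.ker) 1) :=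
    Sga2.ThickCoh.subsingleton_HH_of_iso (Smoothlim.ConormalRes.idealModKerIso i).symm 1 hK1
  constructor
  · intro a b hab
    obtain ⟨L, hL, rfl⟩ := exists_mk a
    obtain ⟨M, hM, rfl⟩ := exists_mk b
    rw [pull_mk, pull_mk, mk_eq_iff] at hab
    obtain ⟨e⟩ := hab
    have e1 : (Scheme.Modules.pullback i.ker.subschemeι).obj L ≅ (Scheme.Modules.pullback i.ker.subschemeι).obj M := by
      have hj : inv i.toImage ≫ i = i.ker.subschemeι := by
        rw [IsIso.inv_comp_eq]
        exact i.toImage_imageι.symm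
      exact (Scheme.Modules.pullbackCongr hj.symm).app L ≪≫
        ((Scheme.Modules.pullbackComp (inv i.toImage) i).app L).symm ≪≫
        (Scheme.Modules.pullback (inv i.toImage)).mapIso e ≪≫
        (Scheme.Modules.pullbackComp (inv i.toImage) i).app M ≪≫ (Scheme.Modules.pullbackCongr hj).app M
    exact (mk_eq_iff hL hM).2 (K247.SqZeroUniq.nonempty_iso Y i.ker hI hK1' L M hL hM e1)
  · intro c
    obtain ⟨L₀, hL₀, rfl⟩ := exists_mk c
    obtain ⟨L, hL, ⟨e⟩⟩ := Sga2.PicThick.lift_of_H2 i hI hK2 L₀ hL₀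
    refine ⟨mk L hL, ?_⟩
    rw [pull_mk]
    exact mk_congr e

end K776.PicDef
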