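import Groth.Prelude.Def_AbDual
import Groth.Agent.S17906
import Groth.Agent.Sga3B.BcPts

/-!
# Base change of a scheme representing the sheafified relative Picard functor

`isRelPicK_bc`: if `(P, φ)` represents the `K`-sheafified relative Picard functor of `f : X ⟶ S` then
`(Red.bc g P, bcφ)` represents the one of `X ×_S S' ⟶ S'`.
-/

set_option autoImplicit false
universe u
open CategoryTheory CategoryTheory.Limits MonoidalCategory CartesianMonoidalCategory MonObj AlgebraicGeometry

namespace K776.RelPicBC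

open Groth.Agent.Ega2.LimPic Groth.Agent.Sga3B.BcPts
open Groth.Agent.S17906 (XTmap_fst XTmap_snd pull_inv_hom pull_hom_inv XTmap_comp)

variable {X S S' : Scheme.{u}} (f : X ⟶ S) (g : S' ⟶ S)

/-- The two ways of seeing `X ×_S T`. -/
noncomputable abbrev eT (T : Over S') : PicF.XT (pullback.snd f g) T ≅ PicF.XT f ((Over.map g).obj T) :=
  pullbackLeftPullbackSndIso f g T.hom

theorem eT_fst (T : Over S') : (eT f g T).hom ≫ pullback.fst f (T.hom ≫ g) =
    pullback.fst (pullback.snd f g) T.hom ≫ pullback.fst f g :=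
  pullbackLeftPullbackSndIso_hom_fst f g T.hom

theorem eT_snd (T : Over S') : (eT f g T).hom ≫ pullback.snd f (T.hom ≫ g) =
    pullback.snd (pullback.snd f g) T.hom :=
  pullbackLeftPullbackSndIso_hom_snd f g T.hom

theorem eT_comp {T T' : Over S'} (h : T' ⟶ T) :
    PicF.XTmap (pullback.snd f g) h ≫ (eT f g T).hom =
      (eT f g T').hom ≫ PicF.XTmap f ((Over.map g).map h) := by
  apply pullback.hom_ext
  · rw [Category.assoc, Category.assoc]
    refine (congrArg _ (eT_fst f g T)).trans ?_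
    refine Eq.trans ?_ (congrArg _ (XTmap_fst f ((Over.map g).map h))).symm
    refine Eq.trans ?_ (eT_fst f g T').symm
    rw [← Category.assoc, XTmap_fst]
  · rw [Category.assoc, Category.assoc]
    refine (congrArg _ (eT_snd f g T)).trans ?_
    refine Eq.trans ?_ (congrArg _ (XTmap_snd f ((Over.map g).map h))).symm
    refine (XTmap_snd (pullback.snd f g) h).trans ?_
    rw [← Category.assoc]
    exact (congrArg (· ≫ h.left) (eT_snd f g T')).symm

theorem eT_inv_comp {T T' : Over S'} (h : T' ⟶ T) :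
    (eT f g T').inv ≫ PicF.XTmap (pullback.snd f g) h =
      PicF.XTmap f ((Over.map g).map h) ≫ (eT f g T).inv := by
  rw [Iso.inv_comp_eq, ← Category.assoc, Iso.eq_comp_inv, eT_comp]

theorem pull_eT {T T' : Over S'} (h : T' ⟶ T) (c : PicF.Cl (PicF.XT (pullback.snd f g) T)) :
    PicF.pullCl (eT f g T').inv (PicF.pullCl (PicF.XTmap (pullback.snd f g) h) c) =
      PicF.pullCl (PicF.XTmap f ((Over.map g).map h)) (PicF.pullCl (eT f g T).inv c) := by
  rw [← pullCl_comp, ← pullCl_comp, eT_inv_comp]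

/-- The universal map of the base change. -/
noncomputable def bcφ {P : Over S} (φ : ∀ T : Over S, PicF.Cl (PicF.XT f T) → (T ⟶ P)) (T : Over S')
    (c : PicF.Cl (PicF.XT (pullback.snd f g) T)) : T ⟶ Red.bc g P :=
  bcEquiv g T P (φ ((Over.map g).obj T) (PicF.pullCl (eT f g T).inv c))

/-- `U → T → S'` over `S`, in two ways. -/
def κ (T : Over S') {U : Scheme.{u}} (v : U ⟶ T.left) :
    (Over.map g).obj (AbDual.ovr T v) ⟶ AbDual.ovr ((Over.map g).obj T) v :=
  Over.homMk (𝟙 _) (by
    change 𝟙 _ ≫ v ≫ T.hom ≫ g = (v ≫ T.hom) ≫ g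
    rw [Category.id_comp, Category.assoc])

theorem κ_comp (T : Over S') {U : Scheme.{u}} (v : U ⟶ T.left) :
    κ g T v ≫ AbDual.ovrHom ((Over.map g).obj T) v = (Over.map g).map (AbDual.ovrHom T v) := by
  apply Over.OverMorphism.ext
  change 𝟙 _ ≫ v = v
  rw [Category.id_comp]

theorem isRelPicK_bc (K : Precoverage Scheme.{u}) {P : Over S}
    {φ : ∀ T : Over S, PicF.Cl (PicF.XT f T) → (T ⟶ P)} (hP : AbDual.IsRelPicK K f P φ) :
    AbDual.IsRelPicK K (pullback.snd f g) (Red.bc g P) (bcφ f g φ) := by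
  refine ⟨?_, ?_, ?_⟩
  · intro T T' h c hc
    have hn := hP.natural _ _ ((Over.map g).map h) (PicF.pullCl (eT f g T).inv c) (isInvertibleCl_pullCl _ hc)
    rw [← pull_eT] at hn
    rw [bcφ, hn, comp_bcEquiv]
    rfl
  · intro T a
    obtain ⟨R, hR, hc⟩ := hP.locallySurjective ((Over.map g).obj T) ((bcEquiv g T P).symm a)
    refine ⟨R, hR, fun U v hv => ?_⟩
    obtain ⟨c, hc1, hc2⟩ := hc v hv
    refine ⟨PicF.pullCl (eT f g (AbDual.ovr T v)).hom (PicF.pullCl (PicF.XTmap f (κ g T v)) c),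
      isInvertibleCl_pullCl _ (isInvertibleCl_pullCl _ hc1), ?_⟩
    rw [bcφ, pull_inv_hom, hP.natural _ _ _ _ hc1, hc2, ← Category.assoc, κ_comp, comp_bcEquiv,
      Equiv.apply_symm_apply]
  · intro T c c' hc hc' heq
    have h1 := (bcEquiv g T P).injective heq
    obtain ⟨R, hR, hu⟩ := hP.locallyInjective _ _ _ (isInvertibleCl_pullCl _ hc) (isInvertibleCl_pullCl _ hc') h1
    refine ⟨R, hR, fun U v hv => ?_⟩
    have key : ∀ d : PicF.Cl (PicF.XT (pullback.snd f g) T),
        PicF.pullCl (PicF.XTmap (pullback.snd f g) (AbDual.ovrHom T v)) d =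
          PicF.pullCl (eT f g (AbDual.ovr T v)).hom (PicF.pullCl (PicF.XTmap f (κ g T v))
            (PicF.pullCl (PicF.XTmap f (AbDual.ovrHom ((Over.map g).obj T) v))
              (PicF.pullCl (eT f g T).inv d))) := by
      intro d
      rw [← pull_hom_inv (eT f g (AbDual.ovr T v))
        (PicF.pullCl (PicF.XTmap (pullback.snd f g) (AbDual.ovrHom T v)) d), pull_eT,
        ← pullCl_comp (PicF.XTmap f (κ g T v)), ← XTmap_comp, κ_comp]
    rw [key c, key c', hu v hv]

end K776.RelPicBC
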