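import Groth.Agent.TwC.K776.EtaleSec
import Groth.Agent.TwC.K776.RelPicBC
import Groth.Agent.Flat2G.StructHH
import Groth.Agent.S0981
import Mathlib.AlgebraicGeometry.Morphisms.LocalFlatDescent

/-!
# Étaleness of the relative Picard scheme of a family with vanishing cohomology
-/

set_option autoImplicit false
universe u
open CategoryTheory CategoryTheory.Limits AlgebraicGeometry

namespace K776.PicDef

open Groth.Agent Groth.Agent.Grpsch.PicGrp Groth.Agent.Fga.RigGrp

variable {X S : Scheme.{u}} (f : X ⟶ S)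

/-- All geometric fibres are integral. -/
def GeomInt : Prop :=
  ∀ (Ω : Type u) [Field Ω] [IsAlgClosed Ω] (ξ : Spec (CommRingCat.of Ω) ⟶ S),
    AlgebraicGeometry.IsIntegral (pullback f ξ)

/-- Vanishing of `H¹` and `H²` of the structure sheaf over affine bases. -/
def Van : Prop :=
  ∀ (T : Scheme.{u}) (g : T ⟶ S), IsAffine T →
    Subsingleton (Coh.HH (pullback f g) (Coh.structureModule (pullback f g)) 1) ∧
      Subsingleton (Coh.HH (pullback f g) (Coh.structureModule (pullback f g)) 2)

variable {f}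

theorem GeomInt.bc (h : GeomInt f) {S' : Scheme.{u}} (u : S' ⟶ S) : GeomInt (pullback.snd f u) := by
  intro Ω _ _ ξ
  have := h Ω (ξ ≫ u)
  have e := pullbackLeftPullbackSndIso f u ξ
  have : Nonempty ↥(pullback (pullback.snd f u) ξ) := ⟨e.inv (Classical.arbitrary _)⟩
  exact isIntegral_of_isOpenImmersion e.hom

theorem Van.bc (h : Van f) {S' : Scheme.{u}} (u : S' ⟶ S) : Van (pullback.snd f u) := by
  intro T g hT
  have e := pullbackLeftPullbackSndIso f u g
  exact ⟨(Flat2G.StructHH.HH_iso_iff e 1).2 (h T (g ≫ u) hT).1, (Flat2G.StructHH.HH_iso_iff e 2).2 (h T (g ≫ u) hT).2⟩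

theorem GeomInt.surjective (h : GeomInt f) : Surjective f := by
  refine ⟨fun s => ?_⟩
  let Ω : Type u := AlgebraicClosure (S.residueField s)
  let ξ : Spec (CommRingCat.of Ω) ⟶ S :=
    Spec.map (CommRingCat.ofHom (algebraMap (S.residueField s) Ω)) ≫ S.fromSpecResidueField s
  have := h Ω ξ
  let z : ↥(pullback f ξ) := Classical.arbitrary _
  refine ⟨pullback.fst f ξ z, ?_⟩
  have h1 : f (pullback.fst f ξ z) = ξ (pullback.snd f ξ z) := by
    rw [← Scheme.Hom.comp_apply, ← Scheme.Hom.comp_apply, pullback.condition]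
  rw [h1]
  have h2 : ξ (pullback.snd f ξ z) ∈ Set.range (S.fromSpecResidueField s) :=
    ⟨Spec.map (CommRingCat.ofHom (algebraMap (S.residueField s) Ω)) (pullback.snd f ξ z), rfl⟩
  rw [Scheme.range_fromSpecResidueField] at h2
  exact h2

theorem GeomInt.isIso_app [IsProper f] [Flat f] [LocallyOfFinitePresentation f] (h : GeomInt f) (T : Over S)
    (U : T.left.Opens) : IsIso ((PicF.XTproj f T).app U) := by
  refine S0981.result (pullback.snd f T.hom) (fun K _ _ g => ?_) U
  have := h.bc T.hom K g
  exact ⟨inferInstance, inferInstance⟩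

/-- The relative Picard scheme is étale. -/
theorem etale [IsLocallyNoetherian S] [IsProper f] [Flat f] (h : GeomInt f) (hv : Van f)
    (P : Over S) [LocallyOfFiniteType P.hom] (φ : ∀ T : Over S, PicF.Cl (PicF.XT f T) → (T ⟶ P))
    (hP : AbDual.IsRelPicK Scheme.fppfPrecoverage f P φ) : Etale P.hom := by
  have h1 : LocallyOfFinitePresentation f := LocallyOfFinitePresentation.iff_locallyOfFiniteType.2 inferInstance
  have h2 : LocallyOfFinitePresentation P.hom := LocallyOfFinitePresentation.iff_locallyOfFiniteType.2 inferInstance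
  have h3 : Surjective f := h.surjective
  have h4 : Etale (Red.bc f P).hom := by
    refine (S1489.result _).2 ⟨inferInstanceAs (LocallyOfFinitePresentation (pullback.snd P.hom f)), ?_⟩
    exact isFormallyEtaleHom_of_section (pullback.snd f f) (pullback.lift (𝟙 X) (𝟙 X) rfl)
      (pullback.lift_snd _ _ _)
      (h.bc f).isIso_app (hv.bc f) (Red.bc f P) _ (RelPicBC.isRelPicK_bc f f _ hP)
  have h5 : Etale (pullback.snd P.hom f) := h4
  exact MorphismProperty.of_pullback_snd_of_descendsAlong (P := @Etale) (Q := @Surjective ⊓ @Flat ⊓ @QuasiCompact)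
    ⟨⟨h3, inferInstance⟩, inferInstance⟩ h5

end K776.PicDef
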