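import Groth.Agent.Fga.RigGrp
import Groth.Agent.AbDual.K732.Cov
import Groth.Agent.S2268
import Groth.Prelude.Def_AbDual

/-!
# Geometric points of the relative Picard scheme

`bijective_phi`: `(P, φ)` representing the fppf sheafified relative Picard functor, `ξ` a geometric point of the base:
`φ` is an isomorphism of groups from `Pic(X_ξ)` onto the group of points of `P` over `ξ`.
-/

set_option autoImplicit false
universe u
open CategoryTheory CategoryTheory.Limits MonoidalCategory CartesianMonoidalCategory MonObj AlgebraicGeometry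

namespace K776.PicPt

open Groth.Agent Groth.Agent.Grpsch.PicGrp Groth.Agent.Fga.RigGrp

theorem exists_section {Ω : Type u} [Field Ω] [IsAlgClosed Ω] {R : Presieve (Spec (CommRingCat.of Ω))}
    (hR : R ∈ Scheme.fppfPrecoverage (Spec (CommRingCat.of Ω))) :
    ∃ (U : Scheme.{u}) (v : U ⟶ Spec (CommRingCat.of Ω)), R v ∧
      ∃ s : Spec (CommRingCat.of Ω) ⟶ U, s ≫ v = 𝟙 _ := by
  have h1 : R ∈ (Scheme.precoverage (@Flat ⊓ @LocallyOfFinitePresentation)) (Spec (CommRingCat.of Ω)) := hR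
  rw [Scheme.precoverage] at h1
  obtain ⟨h2, h3⟩ := h1
  rw [Scheme.jointlySurjectivePrecoverage, Presieve.mem_comap_jointlySurjectivePrecoverage_iff] at h2
  have h4 : ∀ t : Spec (CommRingCat.of Ω), ∃ (U : Scheme.{u}) (v : U ⟶ Spec (CommRingCat.of Ω)),
    R v ∧ ∃ y : U, v y = t := h2
  obtain ⟨U, v, hv, y, hy⟩ := h4 default
  have h5 : (@Flat ⊓ @LocallyOfFinitePresentation : MorphismProperty Scheme.{u}) v := h3 hv
  have h6 : LocallyOfFinitePresentation v := h5.2
  have h7 : Surjective v := ⟨fun t => ⟨y, Subsingleton.elim _ _⟩⟩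
  obtain ⟨s, hs⟩ := (S2268.result v).1 h7 Ω (𝟙 _)
  exact ⟨U, v, hv, s, hs⟩

section

variable {X S : Scheme.{u}} (f : X ⟶ S) {P : Over S} [GrpObj P] {φ : ∀ T : Over S, PicF.Cl (PicF.XT f T) → (T ⟶ P)}

/-- `φ` as a homomorphism on the Picard group. -/
noncomputable def phi (hmul : ∀ (T : Over S) (L M : (PicF.XT f T).Modules), PicF.IsInvertible L → PicF.IsInvertible M →
      φ T (PicF.cl (CohB1.tensorMod L M)) = φ T (PicF.cl L) * φ T (PicF.cl M)) (T : Over S) :
    Pic (PicF.XT f T) →* (T ⟶ P) :=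
  MonoidHom.mk' (fun c => φ T (toCl c)) (fun a b => by
    obtain ⟨L, hL, rfl⟩ := exists_mk a
    obtain ⟨M, hM, rfl⟩ := exists_mk b
    exact hmul T L M hL hM)

variable (hmul : ∀ (T : Over S) (L M : (PicF.XT f T).Modules), PicF.IsInvertible L → PicF.IsInvertible M →
      φ T (PicF.cl (CohB1.tensorMod L M)) = φ T (PicF.cl L) * φ T (PicF.cl M))

theorem comp_phi (hP : AbDual.IsRelPicK Scheme.fppfPrecoverage f P φ) {T T' : Over S} (g : T' ⟶ T)
    (c : Pic (PicF.XT f T)) : g ≫ phi f hmul T c = phi f hmul T' (pull (PicF.XTmap f g) c) := by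
  change g ≫ φ T (toCl c) = φ T' (toCl (pull (PicF.XTmap f g) c))
  rw [toCl_pull, hP.natural _ _ g _ (isInvertibleCl_toCl _)]

theorem bijective_phi (hP : AbDual.IsRelPicK Scheme.fppfPrecoverage f P φ) {Ω : Type u} [Field Ω] [IsAlgClosed Ω]
    (ξ : Spec (CommRingCat.of Ω) ⟶ S) : Function.Bijective (phi f hmul (Over.mk ξ)) := by
  constructor
  · intro a b hab
    have h1 : φ (Over.mk ξ) (toCl a) = φ (Over.mk ξ) (toCl b) := hab
    obtain ⟨R, hR, hu⟩ := hP.locallyInjective (Over.mk ξ) _ _ (isInvertibleCl_toCl _) (isInvertibleCl_toCl _) h1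
    obtain ⟨U, v, hv, s, hs⟩ := exists_section (R := R) hR
    have h2 := hu v hv
    rw [← toCl_pull, ← toCl_pull] at h2
    have h3 := toCl_injective h2
    let k : Over.mk ξ ⟶ AbDual.ovr (Over.mk ξ) v := Over.homMk s (by
      change s ≫ v ≫ ξ = ξ
      rw [reassoc_of% hs])
    have hk : k ≫ AbDual.ovrHom (Over.mk ξ) v = 𝟙 _ := Over.OverMorphism.ext hs
    have h4 := congrArg (pull (PicF.XTmap f k)) h3
    rw [← pull_comp, ← pull_comp, ← XTmap_comp, hk, XTmap_id, pull_id, pull_id] at h4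
    exact h4
  · intro w
    obtain ⟨R, hR, hu⟩ := hP.locallySurjective (Over.mk ξ) w
    obtain ⟨U, v, hv, s, hs⟩ := exists_section (R := R) hR
    obtain ⟨c, hc, hc'⟩ := hu v hv
    obtain ⟨d, rfl⟩ := exists_toCl hc
    let k : Over.mk ξ ⟶ AbDual.ovr (Over.mk ξ) v := Over.homMk s (by
      change s ≫ v ≫ ξ = ξ
      rw [reassoc_of% hs])
    have hk : k ≫ AbDual.ovrHom (Over.mk ξ) v = 𝟙 _ := Over.OverMorphism.ext hs
    refine ⟨pull (PicF.XTmap f k) d, ?_⟩
    rw [← comp_phi f hmul hP]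
    change k ≫ φ _ (toCl d) = w
    rw [hc', reassoc_of% hk]

end

end K776.PicPt
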