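import Groth.Agent.TwC.K776.NSFree
import Groth.Agent.TwC.K776.PtPic
import Groth.Agent.TwC.K776.EtaleP
import Groth.Agent.TwC.K776.ThmA
import Groth.Agent.Ega2.GeoCompactField

/-!
# The relative Picard scheme of a family with simply connected general fibre is twisted constant
-/

set_option autoImplicit false
universe u
open CategoryTheory CategoryTheory.Limits MonoidalCategory CartesianMonoidalCategory MonObj AlgebraicGeometry

namespace K776.TwMain

open Groth.Agent Groth.Agent.Grpsch.PicGrp K776.TwExt K776.PicDef K776.PicPt K776.NSFree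

theorem isNormalScheme_spec (A : Type u) [CommRing A] [IsDomain A] [IsIntegrallyClosed A] :
    Pi1.IsNormalScheme (Spec (CommRingCat.of A)) := by
  intro x
  have hx : x.asIdeal.IsPrime := x.isPrime
  let _ : Algebra A ((Spec (CommRingCat.of A)).presheaf.stalk x) := StructureSheaf.stalkAlgebra A x
  have h1 : IsLocalization.AtPrime ((Spec (CommRingCat.of A)).presheaf.stalk x) x.asIdeal :=
    StructureSheaf.IsLocalization.to_stalk A x
  have h2 : IsDomain ((Spec (CommRingCat.of A)).presheaf.stalk x) :=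
    IsLocalization.isDomain_of_atPrime _ x.asIdeal
  exact ⟨h2, isIntegrallyClosed_of_isLocalization _ x.asIdeal.primeCompl
    x.asIdeal.primeCompl_le_nonZeroDivisors⟩

theorem good_curve (K : Type u) [Field K] [PerfectField K] (C : Scheme.{u}) (c : C ⟶ Spec (CommRingCat.of K))
    [SmoothOfRelativeDimension 1 c] [IsProper c] [AlgebraicGeometry.IsIntegral C] : Good C := by
  have h1 : IsLocallyNoetherian C := LocallyOfFiniteType.isLocallyNoetherian c
  have h2 : CompactSpace C := QuasiCompact.compactSpace_of_compactSpace c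
  have h3 : Smooth c := SmoothOfRelativeDimension.smooth 1 c
  refine ⟨{ }, ⟨?_⟩, inferInstance, FiniteNormal.isNormalScheme_of_smooth ?_ c,
    fun x => (Ega2.GeoCompactField.stalk_props K c x).2.1⟩
  · rw [← terminal.comp_from c]
    infer_instance
  · exact isNormalScheme_spec K

theorem isField_of_isIso {Ω : Type u} [Field Ω] {Y : Scheme.{u}} (g : Y ⟶ Spec (CommRingCat.of Ω))
    (h : IsIso (g.app ⊤)) : IsField (Γ(Y, ⊤) : Type u) := by
  have h1 : IsIso g.appTop := h
  let e : CommRingCat.of Ω ≅ Γ(Y, ⊤) := (Scheme.ΓSpecIso (CommRingCat.of Ω)).symm ≪≫ asIso g.appTop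
  exact (e.commRingCatIsoToRingEquiv.symm.toMulEquiv).isField (Field.toIsField Ω)

theorem isUnit_natCast {K : Type u} [Field K] [CharZero K] {Y : Scheme.{u}} (g : Y ⟶ Spec (CommRingCat.of K))
    (d : ℕ) (hd : 0 < d) : IsUnit ((d : ℕ) : (Γ(Y, ⊤) : Type u)) := by
  let ψ : K →+* Γ(Y, ⊤) := g.appTop.hom.comp (Scheme.ΓSpecIso (CommRingCat.of K)).inv.hom
  have h1 : IsUnit (d : K) := (Nat.cast_ne_zero.2 hd.ne').isUnit
  simpa using h1.map ψ

theorem main (hNS : ∀ (k : Type u) [Field k] [IsAlgClosed k] (X : Scheme.{u}) [X.Over (Spec (CommRingCat.of k))]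
    [IsProper (X ↘ Spec (CommRingCat.of k))], NSfg k X)
    (K : Type u) [Field K] [CharZero K]
    (C : Scheme.{u}) (c : C ⟶ Spec (CommRingCat.of K)) [SmoothOfRelativeDimension 1 c] [IsProper c]
    [AlgebraicGeometry.IsIntegral C]
    (X : Scheme.{u}) (π : X ⟶ C) [Flat π] [IsProper π]
    (hgeom : ∀ (Ω : Type u) [Field Ω] [IsAlgClosed Ω] (ξ : Spec (CommRingCat.of Ω) ⟶ C),
      AlgebraicGeometry.IsIntegral (pullback π ξ))
    (P : Over C) [GrpObj P] [LocallyOfFiniteType P.hom] [AlgebraicGeometry.IsSeparated P.hom]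
    (φ : ∀ T : Over C, PicF.Cl (PicF.XT π T) → (T ⟶ P))
    (hP : AbDual.IsRelPicK Scheme.fppfPrecoverage π P φ)
    (hmul : ∀ (T : Over C) (L M : (PicF.XT π T).Modules), PicF.IsInvertible L → PicF.IsInvertible M →
      φ T (PicF.cl (CohB1.tensorMod L M)) = φ T (PicF.cl L) * φ T (PicF.cl M))
    (hval : ValuativeCriterion.Existence P.hom)
    (hcoh : ∀ (T : Scheme.{u}) (g : T ⟶ C), IsAffine T →
      Subsingleton (Coh.HH (pullback π g) (Coh.structureModule (pullback π g)) 1) ∧
        Subsingleton (Coh.HH (pullback π g) (Coh.structureModule (pullback π g)) 2))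
    (hsc : ∀ (Ω : Type u) [Field Ω] [IsAlgClosed Ω] (ξ : Spec (CommRingCat.of Ω) ⟶ C),
      Set.range ξ.base = {genericPoint C} →
        Smooth (pullback.snd π ξ) ∧
          ∀ (Y : Scheme.{u}) (p : Y ⟶ pullback π ξ), IsFinite p → Etale p → ConnectedSpace Y → IsIso p) :
    ∃ r : ℕ, TwC.IsTwConstGrpOfType TwC.Topology.finiteEtale (Multiplicative (Fin r → ℤ)) P := by
  have hC : Good C := good_curve K C c
  have hCN : IsLocallyNoetherian C := hC.noeth.toIsLocallyNoetherian
  have hG : GeomInt π := fun Ω _ _ ξ => hgeom Ω ξ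
  have hV : Van π := hcoh
  have hlfp : LocallyOfFinitePresentation π := LocallyOfFinitePresentation.iff_locallyOfFiniteType.2 inferInstance
  have het : Etale P.hom := etale hG hV P φ hP
  let Ω : Type u := AlgebraicClosure (C.residueField (genericPoint C))
  let ξ : Spec (CommRingCat.of Ω) ⟶ C :=
    Spec.map (CommRingCat.ofHom (algebraMap (C.residueField (genericPoint C)) Ω)) ≫
      C.fromSpecResidueField (genericPoint C)
  have hξ : Set.range ξ.base = {genericPoint C} := by
    apply Set.Subset.antisymm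
    · rintro _ ⟨z, rfl⟩
      rw [← Scheme.range_fromSpecResidueField]
      exact ⟨Spec.map (CommRingCat.ofHom (algebraMap (C.residueField (genericPoint C)) Ω)) z, rfl⟩
    · rintro _ rfl
      have h1 : ξ.base default ∈ Set.range (C.fromSpecResidueField (genericPoint C)) :=
        ⟨Spec.map (CommRingCat.ofHom (algebraMap (C.residueField (genericPoint C)) Ω)) default, rfl⟩
      rw [Scheme.range_fromSpecResidueField] at h1
      exact ⟨default, h1⟩
  let Y : Scheme.{u} := pullback π ξ
  let _ : Y.Over (Spec (CommRingCat.of Ω)) := ⟨pullback.snd π ξ⟩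
  have hYp : IsProper (Y ↘ Spec (CommRingCat.of Ω)) := inferInstanceAs (IsProper (pullback.snd π ξ))
  have hYI : AlgebraicGeometry.IsIntegral Y := hgeom Ω ξ
  have hYN : IsLocallyNoetherian Y := LocallyOfFiniteType.isLocallyNoetherian (pullback.snd π ξ)
  have hYc : CompactSpace Y := QuasiCompact.compactSpace_of_compactSpace (pullback.snd π ξ)
  have hYN' : AlgebraicGeometry.IsNoetherian Y := { }
  have hfield : IsField (Γ(Y, ⊤) : Type u) :=
    isField_of_isIso (pullback.snd π ξ) (hG.isIso_app (Over.mk ξ) ⊤)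
  obtain ⟨p, g, hg⟩ := closure_eq_top Ω Y (hcoh _ ξ inferInstance).1 (hNS Ω Y)
  obtain ⟨r, ⟨e⟩⟩ := exists_equiv g hg (fun a n hn h => eq_one_of_pow Y hfield
    (fun d hd => isUnit_natCast (pullback.snd π ξ ≫ ξ ≫ c) d hd) (hsc Ω ξ hξ).2 a n hn h)
  refine ⟨r, isTwConstGrpOfType hC P hval Ω ξ (e.trans ?_)⟩
  exact MulEquiv.ofBijective (phi π hmul (Over.mk ξ)) (bijective_phi π hmul hP ξ)

end K776.TwMain
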