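import Groth.Agent.TwC.K776.Ext
import Groth.Agent.NeronHD.K776.NormFin
import Groth.Agent.NeronHD.K776.NormNormal
import Groth.Agent.NeronHD.K776.FiniteNormal
import Groth.Agent.S2787
import Groth.Agent.S2280
import Groth.Agent.Sga5.H847.DimOne
import Mathlib.AlgebraicGeometry.ZariskisMainTheorem

/-!
# Connected components of an étale scheme with the valuative criterion over a curve

`isFinite_component`: `D` a separated Noetherian integral normal scheme of dimension at most one, `p : P ⟶ D` étale,
separated, with the existence part of the valuative criterion: every connected open and closed `W ⊆ P` is finite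
over `D`.
-/

set_option autoImplicit false
universe u
open CategoryTheory CategoryTheory.Limits AlgebraicGeometry TopologicalSpace

namespace K776.TwExt

open Groth.Agent

theorem valuationRing_of_normal (R : Type u) [CommRing R] [IsDomain R] [IsLocalRing R] [IsNoetherianRing R]
    [IsIntegrallyClosed R] (h : ringKrullDim R ≤ 1) : ValuationRing R := by
  have h0 : Ring.KrullDimLE 1 R := Ring.krullDimLE_iff.2 h
  have h1 : Ring.DimensionLEOne R := ⟨fun {p} hp hp' => by
    rcases (Ring.krullDimLE_one_iff.1 h0) p hp' with h | h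
    · exact (hp (by simpa [IsDomain.minimalPrimes_eq_singleton_bot] using h)).elim
    · exact h⟩
  have h2 : IsDedekindDomain R := { }
  exact (ValuationRing.iff_local_bezout_domain).2 ⟨inferInstance, inferInstance⟩

theorem existence_comp {X Y Z : Scheme.{u}} {f : X ⟶ Y} {g : Y ⟶ Z} (hf : ValuativeCriterion.Existence f)
    (hg : ValuativeCriterion.Existence g) : ValuativeCriterion.Existence (f ≫ g) := by
  intro sq
  obtain ⟨⟨l, hl1, hl2⟩⟩ := (hg { R := sq.R, K := sq.K, i₁ := sq.i₁ ≫ f, i₂ := sq.i₂, commSq := ⟨by
    rw [Category.assoc, sq.commSq.w]⟩ }).exists_lift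
  obtain ⟨⟨m, hm1, hm2⟩⟩ := (hf { R := sq.R, K := sq.K, i₁ := sq.i₁, i₂ := l, commSq := ⟨hl1.symm⟩ }).exists_lift
  exact ⟨⟨m, hm1, by rw [reassoc_of% hm2]; exact hl2⟩⟩

theorem existence_of_universallyClosed {X Y : Scheme.{u}} (f : X ⟶ Y) [UniversallyClosed f] :
    ValuativeCriterion.Existence f := by
  have h : UniversallyClosed f := inferInstance
  rw [UniversallyClosed.eq_valuativeCriterion] at h
  exact h.1

theorem valuationRing_stalk {X : Scheme.{u}} [IsIntegral X] [IsLocallyNoetherian X] (hX : Pi1.IsNormalScheme X)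
    (hdim : ∀ x : X, ringKrullDim (X.presheaf.stalk x) ≤ 1) (x : X) : ValuationRing (X.presheaf.stalk x) := by
  have := (hX x).2
  exact valuationRing_of_normal _ (hdim x)

/-- Extension of a morphism defined on a nonempty open. -/
theorem exists_extension_of_open {V X Y S : Scheme.{u}} [IsIntegral X]
    (hX : ∀ x : X, ValuationRing (X.presheaf.stalk x)) (sX : X ⟶ S) (sY : Y ⟶ S)
    [LocallyOfFiniteType sY] [Y.IsSeparated] (h : ValuativeCriterion.Existence sY)
    (j : V ⟶ X) [IsOpenImmersion j] [Nonempty V] (a : V ⟶ Y) (ha : a ≫ sY = j ≫ sX) :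
    ∃ g : X ⟶ Y, g ≫ sY = sX ∧ j ≫ g = a := by
  have hr : Set.range (X.fromSpecStalk (genericPoint X)) ⊆ Set.range j := by
    rw [Scheme.range_fromSpecStalk]
    intro x hx
    have : x = genericPoint X := (((genericPoint_spec X).specializes trivial).antisymm hx).eq.symm
    rw [this]
    have hne : (j.opensRange : Set X).Nonempty := ⟨j (Classical.arbitrary V), ⟨_, rfl⟩⟩
    exact ((genericPoint_spec X).mem_open_set_iff j.opensRange.2).2 (by simpa using hne)
  let l := IsOpenImmersion.lift j (X.fromSpecStalk (genericPoint X)) hr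
  have hl : l ≫ j = X.fromSpecStalk (genericPoint X) := IsOpenImmersion.lift_fac _ _ _
  obtain ⟨g, hg, hg'⟩ := exists_extension hX sX sY h (l ≫ a) (by rw [Category.assoc, ha, reassoc_of% hl])
  refine ⟨g, hg, ?_⟩
  have : IsIntegral V := isIntegral_of_isOpenImmersion j
  have hd : IsDominant l := by
    refine ⟨dense_iff_inter_open.2 fun O hO ⟨v, hv⟩ => ?_⟩
    have h1 : genericPoint X ∈ Set.range (l ≫ j) := by
      rw [hl, Scheme.range_fromSpecStalk]
      exact specializes_rfl
    have h2 : genericPoint X ∈ j '' O :=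
      ((genericPoint_spec X).mem_open_set_iff (j.isOpenEmbedding.isOpenMap O hO)).2
        ⟨j v, trivial, v, hv, rfl⟩
    obtain ⟨s, hs⟩ := h1
    obtain ⟨w, hw, hw'⟩ := h2
    refine ⟨w, hw, s, ?_⟩
    apply j.isOpenEmbedding.injective
    exact hs.trans hw'.symm
  exact ext_of_isDominant l (by rw [reassoc_of% hl, hg'])

theorem isIntegral_of_connected {X : Scheme.{u}} [IsLocallyNoetherian X] [ConnectedSpace X]
    (hX : Pi1.IsNormalScheme X) : IsIntegral X :=
  (S2280.result X).2.2 ⟨inferInstance, fun x => (hX x).1⟩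

theorem isFinite_component {D P : Scheme.{u}} (p : P ⟶ D) [Etale p] [IsSeparated p]
    (hex : ValuativeCriterion.Existence p) [IsNoetherian D] [D.IsSeparated]
    (hD : Pi1.IsNormalScheme D) (hdim : ∀ x : D, ringKrullDim (D.presheaf.stalk x) ≤ 1)
    {W : Scheme.{u}} (i : W ⟶ P) [IsOpenImmersion i] (hi : IsClosed (Set.range i)) [ConnectedSpace W] :
    IsFinite (i ≫ p) := by
  have hic : IsClosedImmersion i := IsClosedImmersion.of_isPreimmersion i hi
  have hWN : IsLocallyNoetherian W := LocallyOfFiniteType.isLocallyNoetherian (i ≫ p)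
  have hWn : Pi1.IsNormalScheme W := FiniteNormal.isNormalScheme_of_smooth hD (i ≫ p)
  have hWI : IsIntegral W := isIntegral_of_connected hWn
  obtain ⟨V, hV, hwV, -⟩ := exists_isAffineOpen_mem_and_subset (x := Classical.arbitrary W) (U := ⊤) trivial
  have hVne : Nonempty V := ⟨⟨_, hwV⟩⟩
  have hVa : IsAffine V := hV
  have hVI : IsIntegral (V : Scheme.{u}) := isIntegral_of_isOpenImmersion V.ι
  have hlqf : LocallyQuasiFinite (i ≫ p) := S2787.locallyQuasiFinite_of_etale _
  let f : (V : Scheme.{u}) ⟶ D := V.ι ≫ i ≫ p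
  have hfe : Etale f := inferInstanceAs (Etale (V.ι ≫ i ≫ p))
  have hfl : LocallyQuasiFinite f := S2787.locallyQuasiFinite_of_etale _
  have hfs : IsSeparated f := inferInstanceAs (IsSeparated (V.ι ≫ i ≫ p))
  have hfq : QuasiCompact f := inferInstance
  have hVN : IsLocallyNoetherian V := LocallyOfFiniteType.isLocallyNoetherian f
  have hVn : Pi1.IsNormalScheme V := FiniteNormal.isNormalScheme_of_smooth hD f
  have hfin : IsFinite f.fromNormalization := NormFin.isFinite_fromNormalization f hD
  have hNn : Pi1.IsNormalScheme f.normalization := NormNormal.isNormalScheme_normalization f hVn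
  have hNN : IsLocallyNoetherian f.normalization := LocallyOfFiniteType.isLocallyNoetherian f.fromNormalization
  have hNd : ∀ x : f.normalization, ringKrullDim (f.normalization.presheaf.stalk x) ≤ 1 :=
    Sga5.H847.DimOne.ringKrullDim_stalk_le_one f.fromNormalization hdim
  have hPs : P.IsSeparated := ⟨by
    rw [← terminal.comp_from p]
    infer_instance⟩
  obtain ⟨g, hg, hg'⟩ := exists_extension_of_open (valuationRing_stalk hNn hNd) f.fromNormalization p hex
    f.toNormalization (V.ι ≫ i) (by rw [Category.assoc, Scheme.Hom.toNormalization_fromNormalization])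
  -- `g` lands in `W`
  have hgr : Set.range g ⊆ Set.range i := by
    have h1 : DenseRange f.toNormalization := f.toNormalization.denseRange
    have h2 : Set.range g ⊆ closure (g '' Set.range f.toNormalization) := by
      rintro _ ⟨z, rfl⟩
      exact image_closure_subset_closure_image g.continuous ⟨z, h1 z, rfl⟩
    refine h2.trans (closure_minimal ?_ hi)
    rintro _ ⟨_, ⟨v, rfl⟩, rfl⟩
    rw [← Scheme.Hom.comp_apply, hg', Scheme.Hom.comp_apply]
    exact ⟨_, rfl⟩
  let g' : f.normalization ⟶ W := IsOpenImmersion.lift i g hgr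
  have hgi : g' ≫ i = g := IsOpenImmersion.lift_fac _ _ _
  have hg'' : g' ≫ i ≫ p = f.fromNormalization := by rw [reassoc_of% hgi, hg]
  have hprop : IsProper g' := by
    have : IsProper (g' ≫ i ≫ p) := by rw [hg'']; infer_instance
    exact IsProper.of_comp g' (i ≫ p)
  have hsurj : Function.Surjective g' := by
    have h1 : IsClosed (Set.range g') := g'.isClosedMap.isClosed_range
    have h2 : (V : Set W) ⊆ Set.range g' := by
      intro v hv
      refine ⟨f.toNormalization ⟨v, hv⟩, ?_⟩
      apply i.isOpenEmbedding.injective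
      exact congrArg (fun k : (V : Scheme.{u}) ⟶ P => k (⟨v, hv⟩ : (V : Scheme.{u})))
        (show f.toNormalization ≫ g' ≫ i = V.ι ≫ i by rw [hgi, hg'])
    have h3 : Dense (V : Set W) := V.2.dense ⟨_, hwV⟩
    have h4 : Set.range g' = Set.univ := by
      rw [← h1.closure_eq]
      exact (h3.mono h2).closure_eq
    exact Set.range_eq_univ.1 h4
  have hNc : CompactSpace f.normalization := QuasiCompact.compactSpace_of_compactSpace f.fromNormalization
  have hWc : CompactSpace W := ⟨by
    rw [← Set.range_eq_univ.2 hsurj]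
    exact isCompact_range g'.continuous⟩
  have hq : QuasiCompact (i ≫ p) := inferInstance
  have hex' : ValuativeCriterion.Existence (i ≫ p) :=
    existence_comp (existence_of_universallyClosed i) hex
  have huc : UniversallyClosed (i ≫ p) := UniversallyClosed.of_valuativeCriterion _ hex'
  have : IsProper (i ≫ p) := { }
  exact IsFinite.of_isProper_of_locallyQuasiFinite _

end K776.TwExt
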