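import Groth.Agent.TwC.K776.Van
import Groth.Agent.S12404
import Groth.Agent.Sga7.H780.PicSm
import Groth.Agent.S1489

/-!
# Étaleness of the Picard scheme of a family with a section and vanishing cohomology

`isFormallyEtaleHom_of_section`: `f : X ⟶ S` with a section, `f_* O = O` universally and
`H¹(X_T, O) = H²(X_T, O) = 0` for `T` affine: a scheme representing the relative Picard functor is formally étale.
-/

set_option autoImplicit false
universe u
open CategoryTheory CategoryTheory.Limits AlgebraicGeometry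

namespace K776.PicDef

open Groth.Agent Groth.Agent.Grpsch.PicGrp Groth.Agent.Fga.RigGrp

variable {X S : Scheme.{u}} (f : X ⟶ S)

theorem surjective_appTop_XTmap (ha : ∀ (T : Over S) (U : T.left.Opens), IsIso ((PicF.XTproj f T).app U))
    {T T' : Over S} (i : T' ⟶ T) (hi : Function.Surjective i.left.appTop) :
    Function.Surjective (PicF.XTmap f i).appTop := by
  have h1 : (PicF.XTproj f T).appTop ≫ (PicF.XTmap f i).appTop = i.left.appTop ≫ (PicF.XTproj f T').appTop := by
    rw [← Scheme.Hom.comp_appTop, ← Scheme.Hom.comp_appTop]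
    exact congrArg Scheme.Hom.appTop (XTmap_XTproj f i)
  have h2 : IsIso (PicF.XTproj f T').appTop := ha T' ⊤
  have h3 : Function.Surjective (i.left.appTop ≫ (PicF.XTproj f T').appTop) := by
    intro y
    obtain ⟨x, hx⟩ := (ConcreteCategory.bijective_of_isIso (PicF.XTproj f T').appTop).2 y
    obtain ⟨w, hw⟩ := hi x
    exact ⟨w, by rw [CommRingCat.comp_apply, hw, hx]⟩
  rw [← h1] at h3
  intro y
  obtain ⟨x, hx⟩ := h3 y
  exact ⟨(PicF.XTproj f T).appTop x, hx⟩

theorem pull_XTmap_bijective (ha : ∀ (T : Over S) (U : T.left.Opens), IsIso ((PicF.XTproj f T).app U))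
    (hcoh : ∀ (T : Scheme.{u}) (g : T ⟶ S), IsAffine T →
      Subsingleton (Coh.HH (pullback f g) (Coh.structureModule (pullback f g)) 1) ∧
        Subsingleton (Coh.HH (pullback f g) (Coh.structureModule (pullback f g)) 2))
    {T T' : Over S} [IsAffine T.left] [IsAffine T'.left] (i : T' ⟶ T) [IsClosedImmersion i.left]
    (hi : i.left.ker ^ 2 = ⊥) : Function.Bijective (pull (PicF.XTmap f i)) := by
  have hpb : IsPullback (PicF.XTmap f i) (PicF.XTproj f T') (PicF.XTproj f T) i.left :=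
    Picfga.HilbPull.isPullback_XTmap f i
  have hι : IsClosedImmersion (PicF.XTmap f i) :=
    MorphismProperty.of_isPullback (P := @IsClosedImmersion) hpb.flip inferInstance
  have hker : (PicF.XTmap f i).ker ^ 2 = ⊥ := by
    have h1 : (PicF.XTmap f i).ker = i.left.ker.comap (PicF.XTproj f T) := by
      rw [← Scheme.IdealSheafData.ker_fst_of_isClosedImmersion, ← hpb.isoPullback_hom_fst,
        Scheme.Hom.ker_comp_of_isIso]
    rw [h1, ← Divis.IdealComap.comap_pow, hi]
    exact (Scheme.IdealSheafData.map_gc _).l_bot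
  refine pull_bijective (PicF.XTmap f i) hker (hcoh T.left T.hom inferInstance).1 (hcoh T.left T.hom inferInstance).2
    (hcoh T'.left T'.hom inferInstance).1 (surjective_appTop_XTmap f ha i ?_)
  have := i.left.app_surjective ⊤ (isAffineOpen_top T.left)
  exact this

variable (σ : S ⟶ X) (hσ : σ ≫ f = 𝟙 S)

include σ hσ in
theorem lift_iff (ha : ∀ (T : Over S) (U : T.left.Opens), IsIso ((PicF.XTproj f T).app U))
    (hcoh : ∀ (T : Scheme.{u}) (g : T ⟶ S), IsAffine T →
      Subsingleton (Coh.HH (pullback f g) (Coh.structureModule (pullback f g)) 1) ∧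
        Subsingleton (Coh.HH (pullback f g) (Coh.structureModule (pullback f g)) 2))
    (P : Over S) (φ : ∀ T : Over S, PicF.Cl (PicF.XT f T) → (T ⟶ P))
    (hP : AbDual.IsRelPicK Scheme.fppfPrecoverage f P φ)
    {T T' : Over S} [IsAffine T.left] [IsAffine T'.left] (i : T' ⟶ T) [IsClosedImmersion i.left]
    (hi : i.left.ker ^ 2 = ⊥) (w : T' ⟶ P) : ∃! l : T ⟶ P, i ≫ l = w := by
  have hb := pull_XTmap_bijective f ha hcoh i hi
  have hφ : ∀ (T : Over S) (w : T ⟶ P), ∃ c ∈ Rg f σ hσ T, φ T (toCl c) = w := by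
    intro T w
    obtain ⟨c, hc⟩ := (S12404.result f σ hσ ha P φ hP T).2 w
    obtain ⟨d, rfl⟩ := (rigEquiv f σ hσ T).surjective c
    exact ⟨d.1, d.2, hc⟩
  have hφi : ∀ (T : Over S) (c c' : Pic (PicF.XT f T)), c ∈ Rg f σ hσ T → c' ∈ Rg f σ hσ T →
      φ T (toCl c) = φ T (toCl c') → c = c' := by
    intro T c c' hc hc' h
    have := (S12404.result f σ hσ ha P φ hP T).1 (a₁ := rigEquiv f σ hσ T ⟨c, hc⟩)
      (a₂ := rigEquiv f σ hσ T ⟨c', hc'⟩) h
    exact congrArg Subtype.val ((rigEquiv f σ hσ T).injective this)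
  have hn : ∀ (c : Pic (PicF.XT f T)), i ≫ φ T (toCl c) = φ T' (toCl (pull (PicF.XTmap f i) c)) := by
    intro c
    rw [toCl_pull, hP.natural _ _ i _ (isInvertibleCl_toCl _)]
  obtain ⟨c₀, hc₀, hw⟩ := hφ T' w
  obtain ⟨c, hc⟩ := hb.2 c₀
  have hcn : pull (PicF.XTmap f i) (norm f σ hσ T c) = c₀ := by
    rw [pull_norm, hc, norm_of_mem f σ hσ hc₀]
  refine ⟨φ T (toCl (norm f σ hσ T c)), ?_, ?_⟩
  · change i ≫ _ = w
    rw [hn, hcn, hw]
  · intro l hl
    change i ≫ l = w at hl
    obtain ⟨d, hd, rfl⟩ := hφ T l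
    rw [hn, ← hw] at hl
    have h1 := hφi T' _ _ (pull_mem i hd) hc₀ hl
    rw [← hb.1 (h1.trans hcn.symm)]

include σ hσ in
theorem isFormallyEtaleHom_of_section
    (ha : ∀ (T : Over S) (U : T.left.Opens), IsIso ((PicF.XTproj f T).app U))
    (hcoh : ∀ (T : Scheme.{u}) (g : T ⟶ S), IsAffine T →
      Subsingleton (Coh.HH (pullback f g) (Coh.structureModule (pullback f g)) 1) ∧
        Subsingleton (Coh.HH (pullback f g) (Coh.structureModule (pullback f g)) 2))
    (P : Over S) (φ : ∀ T : Over S, PicF.Cl (PicF.XT f T) → (T ⟶ P))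
    (hP : AbDual.IsRelPicK Scheme.fppfPrecoverage f P φ) : MoreMor.IsFormallyEtaleHom P.hom := by
  intro A _ I hI a b hab
  have hs : Function.Surjective (CommRingCat.ofHom (Ideal.Quotient.mk I)).hom := Ideal.Quotient.mk_surjective
  have hcl : IsClosedImmersion (Spec.map (CommRingCat.ofHom (Ideal.Quotient.mk I))) :=
    IsClosedImmersion.spec_of_surjective _ hs
  have hker : (Spec.map (CommRingCat.ofHom (Ideal.Quotient.mk I))).ker ^ 2 = ⊥ := by
    apply Sga7.H780.PicSm.ker_sq
    rw [CommRingCat.hom_ofHom, Ideal.mk_ker, hI]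
  let T : Over S := Over.mk b
  let T' : Over S := Over.mk (Spec.map (CommRingCat.ofHom (Ideal.Quotient.mk I)) ≫ b)
  let i : T' ⟶ T := Over.homMk (Spec.map (CommRingCat.ofHom (Ideal.Quotient.mk I))) rfl
  let w : T' ⟶ P := Over.homMk a hab.symm
  have h1 : IsAffine T.left := inferInstanceAs (IsAffine (Spec _))
  have h2 : IsAffine T'.left := inferInstanceAs (IsAffine (Spec _))
  have h3 : IsClosedImmersion i.left := hcl
  obtain ⟨l, hl, hu⟩ := lift_iff f σ hσ ha hcoh P φ hP i hker w
  refine ⟨l.left, ⟨congrArg CommaMorphism.left hl, Over.w l⟩, ?_⟩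
  rintro m ⟨hm1, hm2⟩
  have h4 := hu (Over.homMk m hm2) (Over.OverMorphism.ext hm1)
  exact congrArg CommaMorphism.left h4

end K776.PicDef
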