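import Mathlib.AlgebraicGeometry.Birational.RationalMap
import Mathlib.AlgebraicGeometry.ValuativeCriterion

/-!
# Extension of a morphism from the generic point of a one-dimensional normal scheme

`exists_extension`: `X` integral all of whose local rings are valuation rings, `Y ⟶ S` locally of finite type with
the existence part of the valuative criterion, `Y` separated: an `S`-morphism `Spec K(X) ⟶ Y` extends to `X ⟶ Y`.
-/

set_option autoImplicit false
universe u
open CategoryTheory CategoryTheory.Limits AlgebraicGeometry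

namespace K776.TwExt

variable {X Y S : Scheme.{u}}

theorem exists_lift {f : Y ⟶ S} (h : ValuativeCriterion.Existence f) (R K : CommRingCat.{u}) [IsDomain R]
    [ValuationRing R] (hK : IsField K) (φ : R ⟶ K)
    (hφ : letI := φ.hom.toAlgebra; IsFractionRing R K) (i₁ : Spec K ⟶ Y) (i₂ : Spec R ⟶ S)
    (w : i₁ ≫ f = Spec.map φ ≫ i₂) : ∃ l : Spec R ⟶ Y, Spec.map φ ≫ l = i₁ ∧ l ≫ f = i₂ := by
  let _ := φ.hom.toAlgebra
  let _ := hK.toField
  have : IsFractionRing R K := hφ
  let sq : ValuativeCommSq f := { R := R, K := K, i₁ := i₁, i₂ := i₂, commSq := ⟨w⟩ }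
  obtain ⟨⟨l, hl1, hl2⟩⟩ := (h sq).exists_lift
  exact ⟨l, hl1, hl2⟩

theorem exists_lift_stalk [IsIntegral X] {f : Y ⟶ S} (h : ValuativeCriterion.Existence f) (x : X)
    (hx : ValuationRing (X.presheaf.stalk x)) (ψ : Spec X.functionField ⟶ Y) (t : Spec (X.presheaf.stalk x) ⟶ S)
    (w : ψ ≫ f = Spec.map (X.presheaf.stalkSpecializes (genericPoint_specializes x)) ≫ t) :
    ∃ l : Spec (X.presheaf.stalk x) ⟶ Y,
      Spec.map (X.presheaf.stalkSpecializes (genericPoint_specializes x)) ≫ l = ψ ∧ l ≫ f = t := by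
  refine exists_lift h (X.presheaf.stalk x) X.functionField (Field.toIsField _) _ ?_ ψ t w
  exact (inferInstance : IsFractionRing (X.presheaf.stalk x) X.functionField)

open Scheme in
theorem ι_comp_of_domain_eq_top [IsReduced X] [Y.IsSeparated] (r : X ⤏ Y) (hr : r.domain = ⊤) (p : X.PartialMap Y)
    (hp : p.toRationalMap = r) :
    p.domain.ι ≫ X.topIso.inv ≫ (X.isoOfEq hr.symm).hom ≫ r.toPartialMap.hom = p.hom := by
  subst hp
  have h : X.homOfLE p.le_domain_toRationalMap ≫ p.toRationalMap.toPartialMap.hom = p.hom :=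
    p.toPartialMap_toRationalMap_restrict
  have h3 : p.domain.ι ≫ X.topIso.inv ≫ (X.isoOfEq hr.symm).hom = X.homOfLE p.le_domain_toRationalMap := by
    have h2 : (X.isoOfEq hr.symm).hom ≫ p.toRationalMap.domain.ι = Scheme.Opens.ι ⊤ := Scheme.isoOfEq_hom_ι _ _
    rw [← cancel_mono (p.toRationalMap.domain.ι), Scheme.homOfLE_ι, Category.assoc, Category.assoc, h2]
    simp
  refine Eq.trans ?_ h
  refine Eq.trans ?_ (congrArg (· ≫ p.toRationalMap.toPartialMap.hom) h3)
  exact (Category.assoc p.domain.ι (X.topIso.inv ≫ (X.isoOfEq hr.symm).hom)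
    (p.toRationalMap.toPartialMap.hom : p.toRationalMap.domain.toScheme ⟶ Y)).symm ▸ rfl

open Scheme in
theorem exists_extension [IsIntegral X] (hX : ∀ x : X, ValuationRing (X.presheaf.stalk x)) (sX : X ⟶ S) (sY : Y ⟶ S)
    [LocallyOfFiniteType sY] [Y.IsSeparated] (h : ValuativeCriterion.Existence sY)
    (ψ : Spec X.functionField ⟶ Y) (hψ : ψ ≫ sY = X.fromSpecStalk _ ≫ sX) :
    ∃ g : X ⟶ Y, g ≫ sY = sX ∧ X.fromSpecStalk (genericPoint X) ≫ g = ψ := by
  let r := RationalMap.ofFunctionField sX sY ψ hψ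
  have hr : r.fromFunctionField = ψ := RationalMap.fromFunctionField_ofFunctionField sX sY ψ hψ
  have key : ∀ x : X, ∃ p : X.PartialMap Y, x ∈ p.domain ∧ p.toRationalMap = r ∧
      p.hom ≫ sY = p.domain.ι ≫ sX := by
    intro x
    obtain ⟨l, hl1, hl2⟩ := exists_lift_stalk h x (hX x) ψ (X.fromSpecStalk x ≫ sX) (by
      rw [hψ, Scheme.SpecMap_stalkSpecializes_fromSpecStalk_assoc])
    refine ⟨PartialMap.ofFromSpecStalk sX sY l hl2, PartialMap.mem_domain_ofFromSpecStalk sX sY l hl2, ?_,
      PartialMap.ofFromSpecStalk_comp sX sY l hl2⟩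
    apply RationalMap.eq_of_fromFunctionField_eq
    rw [hr, RationalMap.fromFunctionField_toRationalMap, ← hl1]
    have h1 := PartialMap.fromSpecStalkOfMem_ofFromSpecStalk sX sY l hl2
    conv_rhs => rw [← h1]
    delta PartialMap.fromFunctionField PartialMap.fromSpecStalkOfMem
    rw [← Category.assoc]
    congr 1
    rw [← cancel_mono (PartialMap.ofFromSpecStalk sX sY l hl2).domain.ι]
    simp only [Category.assoc, Scheme.Opens.fromSpecStalkOfMem_ι, Scheme.SpecMap_stalkSpecializes_fromSpecStalk]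
  have hdom : r.domain = ⊤ := by
    rw [eq_top_iff]
    intro x _
    obtain ⟨p, hp, hp', -⟩ := key x
    rw [RationalMap.mem_domain]
    exact ⟨p, hp, hp'⟩
  refine ⟨X.topIso.inv ≫ (X.isoOfEq hdom.symm).hom ≫ r.toPartialMap.hom, ?_, ?_⟩
  · choose p hp hp' hp'' using key
    refine (X.openCoverOfIsOpenCover (fun x => (p x).domain) ?_).hom_ext _ _ fun x => ?_
    · rw [TopologicalSpace.IsOpenCover, eq_top_iff]
      intro x _
      exact TopologicalSpace.Opens.mem_iSup.2 ⟨x, hp x⟩
    · change (p x).domain.ι ≫ _ = (p x).domain.ι ≫ _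
      rw [← hp'' x, ← ι_comp_of_domain_eq_top r hdom (p x) (hp' x)]
      simp only [Category.assoc]
  · obtain ⟨p, hp, hp', -⟩ := key (genericPoint X)
    have h1 := ι_comp_of_domain_eq_top r hdom p hp'
    have h2 : p.fromFunctionField = ψ := by
      rw [← hr, ← hp', RationalMap.fromFunctionField_toRationalMap]
    rw [← h2]
    delta PartialMap.fromFunctionField PartialMap.fromSpecStalkOfMem
    rw [← h1, ← Category.assoc _ p.domain.ι, Scheme.Opens.fromSpecStalkOfMem_ι]

end K776.TwExt
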