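import Groth.Agent.S14831
import Groth.Agent.Lefpen.H608.AlgTriv
import Groth.Agent.Pic13.H948.NSAssembly
import Mathlib.LinearAlgebra.FreeModule.PID
import Mathlib.Algebra.Module.Torsion.Free

/-!
# The Picard group of a simply connected variety with `H¹(O) = 0` is free of finite rank
-/

set_option autoImplicit false
universe u
open CategoryTheory CategoryTheory.Limits AlgebraicGeometry

namespace K776.NSFree

open Groth.Agent Groth.Agent.Grpsch.PicGrp

/-- The conclusion of S4282. -/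
def NSfg (k : Type u) [Field k] (X : Scheme.{u}) [X.Over (Spec (CommRingCat.of k))] : Prop :=
    ∃ (p : ℕ) (G : Fin p → X.Modules), (∀ j, PicF.IsInvertible (G j)) ∧
      ∀ L : X.Modules, PicF.IsInvertible L → ∃ (a b : Fin p → ℕ) (M : X.Modules), PicF.IsInvertible M ∧
        Pic13.IsAlgEquivZero k X M ∧ Nonempty (CohB1.tensorMod L (FGA.multiTwist G b) ≅ CohB1.tensorMod (FGA.multiTwist G a) M)

theorem closure_eq_top (k : Type u) [Field k] [IsAlgClosed k] (X : Scheme.{u}) [X.Over (Spec (CommRingCat.of k))]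
    [IsProper (X ↘ Spec (CommRingCat.of k))] (h1 : Subsingleton (Coh.HH X (Coh.structureModule X) 1))
    (hNS : NSfg k X) : ∃ (p : ℕ) (g : Fin p → Pic X), Subgroup.closure (Set.range g) = ⊤ := by
  obtain ⟨p, G, hG, h⟩ := hNS
  refine ⟨p, fun i => mk (G i) (hG i), ?_⟩
  rw [eq_top_iff]
  intro c _
  obtain ⟨L, hL, rfl⟩ := exists_mk c
  obtain ⟨a, b, M, hM, hM0, ⟨e⟩⟩ := h L hL
  have hM1 : mk M hM = 1 :=
    (mk_eq_one_iff hM).2 (Lefpen.H608.AlgTriv.nonempty_iso_of_isAlgEquivZero h1 hM0)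
  have hb := Pic13.H948.NSAssembly.isInvertible_multiTwist hG b
  have ha := Pic13.H948.NSAssembly.isInvertible_multiTwist hG a
  have h2 : mk L hL * mk _ hb = mk _ ha * mk M hM := by
    rw [mk_mul_mk, mk_mul_mk]
    exact mk_congr e
  rw [hM1, mul_one, Pic13.H948.NSAssembly.mk_multiTwist hG, Pic13.H948.NSAssembly.mk_multiTwist hG] at h2
  have hmem : ∀ a : Fin p → ℕ, ∏ i, mk (G i) (hG i) ^ a i ∈
      Subgroup.closure (Set.range fun i => mk (G i) (hG i)) := fun a =>
    Subgroup.prod_mem _ fun i _ => Subgroup.pow_mem _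
      (Subgroup.subset_closure (Set.mem_range_self (f := fun i => mk (G i) (hG i)) i)) _
  have h3 : mk L hL = (∏ i, mk (G i) (hG i) ^ a i) / (∏ i, mk (G i) (hG i) ^ b i) := by
    rw [← h2, mul_div_cancel_right]
  rw [h3]
  exact Subgroup.div_mem _ (hmem a) (hmem b)

theorem eq_one_of_pow (X : Scheme.{u}) [AlgebraicGeometry.IsIntegral X] [AlgebraicGeometry.IsNoetherian X]
    (hfield : IsField (Γ(X, ⊤) : Type u)) (hchar : ∀ d : ℕ, 0 < d → IsUnit ((d : ℕ) : (Γ(X, ⊤) : Type u)))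
    (hsc : ∀ (Y : Scheme.{u}) (p : Y ⟶ X), IsFinite p → Etale p → ConnectedSpace Y → IsIso p)
    (c : Pic X) (n : ℕ) (hn : 0 < n) (h : c ^ n = 1) : c = 1 := by
  classical
  obtain ⟨L, hL, rfl⟩ := exists_mk c
  have hex : ∃ d : ℕ, 0 < d ∧ (mk L hL) ^ d = 1 := ⟨n, hn, h⟩
  obtain ⟨hd, hd1⟩ := Nat.find_spec hex
  have hiso : ∀ d : ℕ, Nonempty (CohB1.tensorPow L d ≅ Coh.structureModule X) ↔ (mk L hL) ^ d = 1 := by
    intro d
    rw [← mk_tensorPow hL d, mk_eq_one_iff]
  obtain ⟨-, h2⟩ := S14831.result X hfield L hL (Nat.find hex) hd ((hiso _).2 hd1) (fun i hi hi' => by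
    rw [← not_nonempty_iff, hiso]
    intro h3
    exact Nat.find_min hex hi' ⟨hi, h3⟩)
  obtain ⟨X', g, hc, hg, het, ⟨e⟩⟩ := h2 (hchar _ hd)
  have hfin : IsFinite g := hg.1.1
  have := hsc X' g hfin het hc
  have h3 : pull g (mk L hL) = 1 := by
    rw [pull_mk, mk_eq_one_iff]
    exact ⟨e⟩
  have h4 : pull (inv g) (pull g (mk L hL)) = 1 := by rw [h3, map_one]
  rwa [← pull_comp, IsIso.inv_hom_id, pull_id] at h4

theorem exists_equiv {G : Type*} [CommGroup G] {p : ℕ} (g : Fin p → G) (hg : Subgroup.closure (Set.range g) = ⊤)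
    (htf : ∀ (c : G) (n : ℕ), 0 < n → c ^ n = 1 → c = 1) :
    ∃ r : ℕ, Nonempty (Multiplicative (Fin r → ℤ) ≃* G) := by
  have h1 : Group.FG G := Group.fg_iff.2 ⟨Set.range g, hg, Set.finite_range g⟩
  have h2 : Module.Finite ℤ (Additive G) := Module.Finite.iff_addGroup_fg.2 (GroupFG.iff_add_fg.1 h1)
  have h3 : IsAddTorsionFree (Additive G) := ⟨fun n hn a b hab => by
    have h4 : (Additive.toMul a / Additive.toMul b) ^ n = 1 := by
      rw [div_pow]
      exact div_eq_one.2 hab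
    have h5 := htf _ n (Nat.pos_of_ne_zero hn) h4
    have h6 : Additive.toMul a = Additive.toMul b := div_eq_one.1 h5
    exact Additive.toMul.injective h6⟩
  have h4 : Module.Free ℤ (Additive G) := inferInstance
  exact ⟨_, ⟨AddEquiv.toMultiplicativeLeft (Module.finBasis ℤ (Additive G)).equivFun.toAddEquiv.symm⟩⟩

end K776.NSFree
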