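import Groth.Agent.TwC.K776.Comp
import Groth.Agent.S2268
import Groth.Agent.Sga3C.LocConn
import Mathlib.AlgebraicGeometry.Limits
import Mathlib.AlgebraicGeometry.Morphisms.FlatMono

/-!
# Splitting an étale scheme with the valuative criterion over a curve

`exists_cover`: finitely many geometric points of an étale separated `P ⟶ C` with the valuative criterion over a
good curve `C` come from sections over one connected finite étale cover.
`isIso_sigmaDesc`: if all geometric points of `P ⟶ D` at one geometric point come from sections then `P` is the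
constant scheme.
-/

set_option autoImplicit false
universe u v
open CategoryTheory CategoryTheory.Limits AlgebraicGeometry TopologicalSpace

namespace K776.TwExt

open Groth.Agent

/-- Separated connected Noetherian normal schemes of dimension at most one. -/
structure Good (D : Scheme.{u}) : Prop where
  noeth : IsNoetherian D
  sep : D.IsSeparated
  conn : ConnectedSpace D
  normal : Pi1.IsNormalScheme D
  dim : ∀ x : D, ringKrullDim (D.presheaf.stalk x) ≤ 1

theorem Good.of_finite_etale {W D : Scheme.{u}} (hD : Good D) (f : W ⟶ D) [IsFinite f] [Etale f]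
    [ConnectedSpace W] : Good W := by
  have := hD.noeth
  have := hD.sep
  have h1 : IsLocallyNoetherian W := LocallyOfFiniteType.isLocallyNoetherian f
  have h2 : CompactSpace W := QuasiCompact.compactSpace_of_compactSpace f
  have h3 : LocallyQuasiFinite f := S2787.locallyQuasiFinite_of_etale f
  refine ⟨{ }, ⟨?_⟩, inferInstance, FiniteNormal.isNormalScheme_of_smooth hD.normal f,
    Sga5.H847.DimOne.ringKrullDim_stalk_le_one f hD.dim⟩
  rw [← terminal.comp_from f]
  infer_instance

theorem surjective_of_finite_etale {W D : Scheme.{u}} [ConnectedSpace D] [Nonempty W] (f : W ⟶ D) [IsFinite f]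
    [Etale f] : Surjective f := by
  have h1 : IsClopen (Set.range f) := ⟨f.isClosedMap.isClosed_range, f.isOpenMap.isOpen_range⟩
  refine ⟨Set.range_eq_univ.1 (h1.eq_univ (Set.range_nonempty _))⟩

theorem exists_component {D P : Scheme.{u}} (hD : Good D) (p : P ⟶ D) [Etale p] [IsSeparated p]
    (hex : ValuativeCriterion.Existence p) (x : P) :
    ∃ (W : Scheme.{u}) (i : W ⟶ P), IsOpenImmersion i ∧ Set.range i = connectedComponent x ∧ ConnectedSpace W ∧
      IsFinite (i ≫ p) ∧ Surjective (i ≫ p) := by
  have := hD.noeth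
  have := hD.sep
  have := hD.conn
  have hPN : IsLocallyNoetherian P := LocallyOfFiniteType.isLocallyNoetherian p
  have hlc : LocallyConnectedSpace P := Sga3C.LocConn.locallyConnectedSpace_of_isLocallyNoetherian P
  let W : P.Opens := ⟨connectedComponent x, isOpen_connectedComponent⟩
  have hW : Set.range W.ι = connectedComponent x := by rw [Scheme.Opens.range_ι]; rfl
  have hWc : ConnectedSpace W := isConnected_iff_connectedSpace.1 isConnected_connectedComponent
  have hf : IsFinite (W.ι ≫ p) := isFinite_component p hex hD.normal hD.dim W.ι (by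
    rw [hW]; exact isClosed_connectedComponent)
  exact ⟨W, W.ι, inferInstance, hW, hWc, hf, surjective_of_finite_etale _⟩

theorem exists_step {D P : Scheme.{u}} (hD : Good D) (p : P ⟶ D) [Etale p] [IsSeparated p]
    (hex : ValuativeCriterion.Existence p) (Ω : Type u) [Field Ω] (z : Spec (CommRingCat.of Ω) ⟶ P) :
    ∃ (W : Scheme.{u}) (f : W ⟶ D) (a : W ⟶ P) (ζ : Spec (CommRingCat.of Ω) ⟶ W),
      IsFinite f ∧ Etale f ∧ Good W ∧ a ≫ p = f ∧ ζ ≫ a = z := by
  obtain ⟨W, i, hi, hr, hc, hf, -⟩ := exists_component hD p hex (z default)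
  have hle : Set.range z ⊆ Set.range i := by
    rintro _ ⟨y, rfl⟩
    rw [hr, Subsingleton.elim y default]
    exact mem_connectedComponent
  have he : Etale (i ≫ p) := inferInstance
  exact ⟨W, i ≫ p, i, IsOpenImmersion.lift i z hle, hf, he, hD.of_finite_etale (i ≫ p), rfl,
    IsOpenImmersion.lift_fac _ _ _⟩

theorem exists_cover {C P : Scheme.{u}} (hC : Good C) (p : P ⟶ C) [Etale p] [IsSeparated p]
    (hex : ValuativeCriterion.Existence p) (Ω : Type u) [Field Ω] (ξ : Spec (CommRingCat.of Ω) ⟶ C) (n : ℕ)
    (z : Fin n → (Spec (CommRingCat.of Ω) ⟶ P)) (hz : ∀ i, z i ≫ p = ξ) :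
    ∃ (D : Scheme.{u}) (f : D ⟶ C) (ζ : Spec (CommRingCat.of Ω) ⟶ D) (q : Fin n → (D ⟶ P)),
      IsFinite f ∧ Etale f ∧ Good D ∧ ζ ≫ f = ξ ∧ (∀ i, q i ≫ p = f) ∧ ∀ i, ζ ≫ q i = z i := by
  induction n with
  | zero => exact ⟨C, 𝟙 C, ξ, fun i => i.elim0, inferInstance, inferInstance, hC, by simp, fun i => i.elim0,
      fun i => i.elim0⟩
  | succ n ih =>
    obtain ⟨D, f, ζ, q, h1, h2, h3, h4, h5, h6⟩ := ih (fun i => z i.castSucc) (fun i => hz _)
    have hex' : ValuativeCriterion.Existence (pullback.snd p f) :=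
      MorphismProperty.pullback_snd (P := ValuativeCriterion.Existence) p f hex
    obtain ⟨W, g, a, ω, k1, k2, k3, k4, k5⟩ := exists_step h3 (pullback.snd p f) hex' Ω
      (pullback.lift (z (Fin.last n)) ζ (by rw [hz, h4]))
    have hω : ω ≫ g = ζ := by rw [← k4, reassoc_of% k5, pullback.lift_snd]
    refine ⟨W, g ≫ f, ω, Fin.snoc (fun i => g ≫ q i) (a ≫ pullback.fst p f), inferInstance, inferInstance, k3,
      by rw [reassoc_of% hω, h4], fun i => ?_, fun i => ?_⟩
    · refine Fin.lastCases ?_ (fun i => ?_) i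
      · simp only [Fin.snoc_last, Category.assoc]
        rw [pullback.condition, reassoc_of% k4]
      · simp only [Fin.snoc_castSucc, Category.assoc, h5]
    · refine Fin.lastCases ?_ (fun i => ?_) i
      · simp only [Fin.snoc_last]
        rw [reassoc_of% k5, pullback.lift_fst]
      · simp only [Fin.snoc_castSucc]
        rw [reassoc_of% hω, h6]

theorem isIso_sigmaDesc {D P : Scheme.{u}} (hD : Good D) (p : P ⟶ D) [Etale p] [IsSeparated p]
    (hex : ValuativeCriterion.Existence p) (Ω : Type u) [Field Ω] [IsAlgClosed Ω]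
    (ζ : Spec (CommRingCat.of Ω) ⟶ D) {M : Type v} [Small.{u} M] (s : M → (D ⟶ P)) (hs : ∀ m, s m ≫ p = 𝟙 D)
    (hinj : ∀ m m', ζ ≫ s m = ζ ≫ s m' → m = m')
    (hsurj : ∀ z : Spec (CommRingCat.of Ω) ⟶ P, z ≫ p = ζ → ∃ m, ζ ≫ s m = z) :
    IsIso (Sigma.desc s) := by
  have := hD.conn
  have ho : ∀ m, IsOpenImmersion (s m) := fun m => by
    have h1 : Etale (s m ≫ p) := by rw [hs]; infer_instance
    have h2 : Etale (s m) := Etale.of_comp (s m) p
    have h3 : Mono (s m ≫ p) := by rw [hs]; infer_instance
    have h4 : Mono (s m) := mono_of_mono (s m) p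
    exact IsOpenImmersion.of_flat_of_mono (s m)
  have hcl : ∀ m, IsClosed (Set.range (s m)) := fun m => by
    have : IsClosedImmersion (s m ≫ p) := by rw [hs]; infer_instance
    have : IsClosedImmersion (s m) := IsClosedImmersion.of_comp (s m) p
    exact (s m).isClosedEmbedding.isClosed_range
  have hcomp : ∀ m (x : P), x ∈ Set.range (s m) → Set.range (s m) = connectedComponent x := by
    intro m x hx
    apply Set.Subset.antisymm
    · exact (isPreconnected_range (s m).continuous).subset_connectedComponent hx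
    · exact IsClopen.connectedComponent_subset ⟨hcl m, (s m).isOpenEmbedding.isOpen_range⟩ hx
  have hdis : Pairwise (Function.onFun Disjoint (fun m => Set.range (s m))) := by
    intro m m' hne
    rw [Function.onFun, Set.disjoint_left]
    intro x hx hx'
    apply hne
    apply hinj
    have hr : Set.range (s m') ⊆ Set.range (s m) := by rw [hcomp m x hx, hcomp m' x hx']
    let t := IsOpenImmersion.lift (s m) (s m') hr
    have ht : t ≫ s m = s m' := IsOpenImmersion.lift_fac _ _ _
    have ht' : t = 𝟙 D := by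
      calc t = t ≫ 𝟙 D := (Category.comp_id _).symm
        _ = t ≫ s m ≫ p := by rw [hs]
        _ = 𝟙 D := by rw [reassoc_of% ht, hs]
    rw [← ht, ht', Category.id_comp]
  have hoi : IsOpenImmersion (Sigma.desc s) := isOpenImmersion_sigmaDesc _ s hdis
  have hsur : Surjective (Sigma.desc s) := by
    refine ⟨fun x => ?_⟩
    obtain ⟨W, i, hi, hr, hc, hf, hfs⟩ := exists_component hD p hex x
    obtain ⟨z, hz⟩ := (S2268.result (i ≫ p)).1 hfs Ω ζ
    obtain ⟨m, hm⟩ := hsurj (z ≫ i) (by rw [Category.assoc, hz])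
    have h1 : i (z default) ∈ Set.range (s m) := ⟨ζ default, by
      rw [← Scheme.Hom.comp_apply, ← Scheme.Hom.comp_apply, hm]⟩
    have h2 : x ∈ Set.range (s m) := by
      have h3 : i (z default) ∈ connectedComponent x := by rw [← hr]; exact ⟨_, rfl⟩
      rw [hcomp m _ h1, ← connectedComponent_eq h3]
      exact mem_connectedComponent
    obtain ⟨d, hd⟩ := h2
    refine ⟨Sigma.ι (fun _ : M => D) m d, ?_⟩
    rw [← Scheme.Hom.comp_apply, Sigma.ι_desc, hd]
  exact (isIso_iff_isOpenImmersion_and_surjective _).2 ⟨hoi, hsur⟩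

end K776.TwExt
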